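import Groth.Agent.RpushCop.Abstract
import Groth.Agent.EtAcycLib.UnitRpush
import Groth.Agent.EtLim8.Acyclic
import Groth.Agent.EtLC12.QcqsAcyclic
import Groth.Agent.SiteBase.AbSecExact
import Groth.Prelude.Def_DCoh2

/-!
# Unbounded direct images of étale sheaves and coproducts
-/

set_option autoImplicit false
set_option linter.unusedSectionVars false
set_option linter.style.haveILetI false
set_option backward.isDefEq.respectTransparency false
set_option backward.isDefEq.respectTransparency.types false

universe w v v' u u'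

open CategoryTheory CategoryTheory.Limits AlgebraicGeometry Opposite Abelian

noncomputable section

namespace Groth.Agent.RpushCop

open CoproductsFromFiniteFiltered in
/-- An additive functor preserving filtered colimits of finite sums preserves sums. -/
theorem preservesColimitsOfShape_discrete_of_finset {A : Type u} [Category.{v} A] [Abelian A] {B : Type u'}
    [Category.{v'} B] [Abelian B] (F : A ⥤ B) [F.Additive] (α : Type w)
    [HasColimitsOfShape (Finset (Discrete α)) A] [HasColimitsOfShape (Discrete α) A]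
    [PreservesColimitsOfShape (Finset (Discrete α)) F] : PreservesColimitsOfShape (Discrete α) F := by
  haveI := Abelian.hasFiniteBiproducts (C := A)
  haveI : PreservesFiniteCoproducts F := inferInstance
  suffices ∀ X : α → A, PreservesColimit (Discrete.functor X) F from
    ⟨fun {K} => haveI := this fun j => K.obj ⟨j⟩
      preservesColimit_of_iso_diagram F (Discrete.natIsoFunctor (F := K)).symm⟩
  intro X
  let hc := isColimitOfPreserves F (isColimitFiniteSubproductsCocone X)
  let hS : ∀ S : Finset (Discrete α), IsColimit (F.mapCocone (colimit.cocone (Discrete.functor fun x : S => X x.1.as))) :=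
    fun S => isColimitOfPreserves F (colimit.isColimit _)
  refine preservesColimit_of_preserves_colimit_cocone (coproductIsCoproduct X)
    ((Cofan.isColimitMapCoconeEquiv F _ _).symm ?_)
  let d : ∀ t : Cofan (fun j => F.obj (X j)), Cocone (liftToFinsetObj (Discrete.functor X) ⋙ F) := fun t =>
    ⟨t.pt,
    { app := fun S => (hS S).desc ⟨t.pt, Discrete.natTrans fun x => t.inj x.as.1.as⟩
      naturality := fun S T h => (hS S).hom_ext fun ⟨x⟩ => by
          refine Eq.trans ?_ ((congrArg (_ ≫ ·) (Category.comp_id _)).trans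
            ((hS S).fac ⟨t.pt, Discrete.natTrans fun x => t.inj x.as.1.as⟩ ⟨x⟩)).symm
          show F.map (Sigma.ι (fun y : S => X y.1.as) x) ≫ F.map ((liftToFinsetObj (Discrete.functor X)).map h) ≫
            (hS T).desc _ = _
          rw [← Category.assoc, ← F.map_comp]
          erw [Sigma.ι_desc]
          exact (hS T).fac ⟨t.pt, Discrete.natTrans fun x => t.inj x.as.1.as⟩ ⟨⟨x.1, h.down.down x.2⟩⟩ }⟩
  refine Cofan.IsColimit.mk _ (fun t => hc.desc (d t)) (fun t j => ?_) (fun t m hm => ?_)
  · show F.map (Sigma.ι X j) ≫ hc.desc (d t) = t.inj j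
    have h := hc.fac (d t) {⟨j⟩}
    have h2 := (hS {⟨j⟩}).fac ⟨t.pt, Discrete.natTrans fun x => t.inj x.as.1.as⟩ ⟨⟨⟨j⟩, Finset.mem_singleton_self _⟩⟩
    refine Eq.trans ?_ h2
    refine Eq.trans ?_ (congrArg (_ ≫ ·) h)
    erw [← Category.assoc, ← F.map_comp, Sigma.ι_desc]
  · refine hc.hom_ext fun S => ((hS S).hom_ext fun ⟨x⟩ => ?_).trans (hc.fac (d t) S).symm
    refine Eq.trans ?_ ((hS S).fac ⟨t.pt, Discrete.natTrans fun x => t.inj x.as.1.as⟩ ⟨x⟩).symm
    show F.map (Sigma.ι (fun y : S => X y.1.as) x) ≫ F.map (Sigma.desc _) ≫ m = t.inj x.1.as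
    rw [← Category.assoc, ← F.map_comp]
    erw [Sigma.ι_desc]
    exact hm _

open EtFound

variable {X S : Scheme.{u}}

/-- No cohomology in positive degrees on qcqs étale schemes. -/
def Acyc (M : EtCoh.Ab X) : Prop :=
  ∀ W : X.Etale, IsQcqsObj W → ∀ q, Subsingleton (EtCoh.H W.left ((EtCoh.pull W.hom).obj M) (q + 1))

theorem acyc_of_injective (M : EtCoh.Ab X) [Injective M] : Acyc M := by
  intro W _ q
  haveI : AlgebraicGeometry.Etale W.hom := W.prop
  haveI := EtFound.jCont W.hom
  haveI := EtLC12.AffineLocalAcyclic.injective_pull W.hom M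
  exact ⟨fun x y => (Ext.eq_zero_of_injective x).trans (Ext.eq_zero_of_injective y).symm⟩

/-- Cohomology of the restriction to an étale scheme. -/
abbrev HW (W : X.Etale) (q : ℕ) : EtCoh.Ab X ⥤ AddCommGrpCat.{u + 1} := EtCoh.pull W.hom ⋙ EtCoh.HF W.left q

theorem acyc_iff (M : EtCoh.Ab X) : Acyc M ↔ ∀ W : X.Etale, IsQcqsObj W → ∀ q, IsZero ((HW W (q + 1)).obj M) := by
  refine forall_congr' fun W => forall_congr' fun _ => forall_congr' fun q => ?_
  exact ⟨fun h => @AddCommGrpCat.isZero_of_subsingleton ((HW W (q + 1)).obj M) h,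
    fun h => AddCommGrpCat.subsingleton_of_isZero (G := (HW W (q + 1)).obj M) h⟩

theorem acyc_of_iso (M N : EtCoh.Ab X) (e : M ≅ N) (h : Acyc M) : Acyc N :=
  (acyc_iff N).2 fun W hW q => ((acyc_iff M).1 h W hW q).of_iso ((HW W (q + 1)).mapIso e.symm)

theorem additive_pull (j : S ⟶ X) : (EtCoh.pull j).Additive := by
  haveI : (EtCoh.pull j).IsLeftAdjoint := (EtCoh.pullPushAdj j).isLeftAdjoint
  haveI := Groth.Agent.EtFound.pull_preservesFiniteLimits j
  infer_instance

theorem acyc_biprod (M N : EtCoh.Ab X) (hM : Acyc M) (hN : Acyc N) : Acyc (M ⊞ N) :=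
  (acyc_iff _).2 fun W hW q => by
    haveI := additive_pull W.hom
    haveI : (EtCoh.HF W.left (q + 1)).Additive := DCoh.additive_HF W.left _
    haveI : (HW W (q + 1)).Additive := inferInstanceAs ((EtCoh.pull W.hom ⋙ EtCoh.HF W.left (q + 1)).Additive)
    haveI : PreservesFiniteBiproducts (HW W (q + 1)) := inferInstance
    haveI : PreservesBinaryBiproducts (HW W (q + 1)) := preservesBinaryBiproducts_of_preservesBiproducts _
    exact (biprod_isZero_iff _ _).2 ⟨(acyc_iff M).1 hM W hW q, (acyc_iff N).1 hN W hW q⟩ |>.of_iso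
      ((HW W (q + 1)).mapBiprod M N)

theorem acyc_sigma {ι : Type (u + 1)} (M : ι → EtCoh.Ab X) (hM : ∀ j, Acyc (M j)) : Acyc (∐ M) :=
  (acyc_iff _).2 fun W hW q => by
    haveI := additive_pull W.hom
    haveI : (EtCoh.HF W.left (q + 1)).Additive := DCoh.additive_HF W.left _
    haveI := hW.1
    haveI := hW.2
    haveI : (EtCoh.pull W.hom).IsLeftAdjoint := (EtCoh.pullPushAdj W.hom).isLeftAdjoint
    haveI := EtLC12.QcqsAcyclic.preservesColimitsOfShape_HF W.left (q + 1) (Finset (Discrete ι))
    haveI : PreservesColimitsOfShape (Finset (Discrete ι)) (EtCoh.pull W.hom) :=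
      haveI : PreservesColimitsOfSize.{u + 1, u + 1} (EtCoh.pull W.hom) :=
        (EtCoh.pullPushAdj W.hom).leftAdjoint_preservesColimits
      PreservesColimitsOfSize.preservesColimitsOfShape
    haveI : PreservesColimitsOfShape (Finset (Discrete ι)) (HW W (q + 1)) :=
      inferInstanceAs (PreservesColimitsOfShape (Finset (Discrete ι)) (EtCoh.pull W.hom ⋙ EtCoh.HF W.left (q + 1)))
    haveI := preservesColimitsOfShape_discrete_of_finset (HW W (q + 1)) ι
    refine IsZero.of_iso ?_ (PreservesCoproduct.iso (HW W (q + 1)) M)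
    exact IsZero.of_iso (isZero_zero _) (IsInitial.ofUniqueHom (fun Z => Sigma.desc fun j => 0)
      (fun Z g => colimit.hom_ext fun ⟨j⟩ => ((acyc_iff (M j)).1 (hM j) W hW q).eq_of_src _ _) |>.uniqueUpToIso
        (HasZeroObject.zeroIsInitial))

variable (f : X ⟶ S) [QuasiCompact f] [QuasiSeparated f]

theorem isQcqsObj_bc (U : S.Etale) (hU : IsQcqsObj U) : IsQcqsObj ((EtCoh.bc f).obj U) := by
  haveI := hU.1
  haveI := hU.2
  have h := EtLim8.isPullback_bcFst f U
  haveI : QuasiCompact (EtLim8.bcFst f U) := MorphismProperty.of_isPullback h.flip ‹QuasiCompact f›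
  haveI : QuasiSeparated (EtLim8.bcFst f U) := MorphismProperty.of_isPullback h.flip ‹QuasiSeparated f›
  exact ⟨QuasiCompact.compactSpace_of_compactSpace (EtLim8.bcFst f U),
    quasiSeparatedSpace_of_quasiSeparated (EtLim8.bcFst f U)⟩

/-- Direct images along qcqs morphisms commute with filtered colimits. -/
theorem preservesColimitsOfShape_push (J : Type (u + 1)) [SmallCategory J] [IsFiltered J] :
    PreservesColimitsOfShape J (EtCoh.push f) := by
  refine ⟨fun {D} => preservesColimit_of_preserves_colimit_cocone (colimit.isColimit D) ?_⟩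
  let c := (EtCoh.push f).mapCocone (colimit.cocone D)
  let γ := colimit.desc (D ⋙ EtCoh.push f) c
  haveI : IsIso γ := EtLim8.isIso_of_bijective_qcqs γ fun U hU => by
    haveI := preservesColimitsOfShape_sections_qcqs_ab U hU J
    haveI := preservesColimitsOfShape_sections_qcqs_ab _ (isQcqsObj_bc f U hU) J
    let ΓU := sheafToPresheaf S.smallEtaleTopology AddCommGrpCat.{u + 1} ⋙
      (evaluation S.Etaleᵒᵖ AddCommGrpCat.{u + 1}).obj (op U)
    let ΓW := sheafToPresheaf X.smallEtaleTopology AddCommGrpCat.{u + 1} ⋙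
      (evaluation X.Etaleᵒᵖ AddCommGrpCat.{u + 1}).obj (op ((EtCoh.bc f).obj U))
    let h1 : IsColimit (ΓU.mapCocone (colimit.cocone (D ⋙ EtCoh.push f))) := isColimitOfPreserves ΓU (colimit.isColimit _)
    let h2 : IsColimit (ΓU.mapCocone c) := isColimitOfPreserves ΓW (colimit.isColimit D)
    have h : ΓU.map γ = h1.desc (ΓU.mapCocone c) := h1.hom_ext fun j => by
      rw [h1.fac]
      exact (ΓU.map_comp _ _).symm.trans (congrArg ΓU.map (colimit.ι_desc c j))
    haveI : IsIso (ΓU.map γ) := h ▸ inferInstanceAs (IsIso ((Cocone.forget _).mapIso (@asIso _ _ _ _ _ (IsColimit.hom_isIso h1 h2 (h1.descCoconeMorphism _)))).hom)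
    exact (ConcreteCategory.isIso_iff_bijective (ΓU.map γ)).1 inferInstance
  haveI : IsIso ((colimit.isColimit (D ⋙ EtCoh.push f)).desc c) := ‹IsIso γ›
  exact IsColimit.ofPointIso (colimit.isColimit _)

theorem preservesCoproducts_push (ι : Type (u + 1)) : PreservesColimitsOfShape (Discrete ι) (EtCoh.push f) := by
  haveI := preservesColimitsOfShape_push f (Finset (Discrete ι))
  haveI : (EtCoh.push f).IsRightAdjoint := (EtCoh.pullPushAdj f).isRightAdjoint
  exact preservesColimitsOfShape_discrete_of_finset (EtCoh.push f) ι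

end Groth.Agent.RpushCop
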