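import Groth.Agent.RpushCop.Etale

/-!
# Direct images of exact complexes of acyclic sheaves
-/

set_option autoImplicit false
set_option linter.unusedSectionVars false
set_option linter.style.haveILetI false
set_option backward.isDefEq.respectTransparency false
set_option backward.isDefEq.respectTransparency.types false

universe u

open CategoryTheory CategoryTheory.Limits AlgebraicGeometry Opposite Abelian

noncomputable section

namespace Groth.Agent.RpushCop

open EtFound

/-- If the kernel has no `H¹`, global sections of a short exact sequence surject. -/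
theorem gsec_surjective {Y : Scheme.{u}} {E : ShortComplex (EtCoh.Ab Y)} (hE : E.ShortExact)
    [Subsingleton (EtCoh.H Y E.X₁ 1)] : Function.Surjective ((EtCore.gsec Y).map E.g) := by
  intro z
  let hT := EtCore.topIsTerminal Y
  obtain ⟨y, hy⟩ := Ext.covariant_sequence_exact₃ _ hE ((Sheaf.H.equiv₀ E.X₃ hT).symm z) (rfl : 0 + 1 = 1)
    (Subsingleton.elim _ _)
  refine ⟨Sheaf.H.equiv₀ E.X₂ hT y, ?_⟩
  refine (Sheaf.H.equiv₀_naturality hT E.g y).trans ?_
  exact ((congrArg (Sheaf.H.equiv₀ E.X₃ hT) hy).trans (Equiv.apply_symm_apply _ _))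

variable {X : Scheme.{u}} (K : CochainComplex (EtCoh.Ab X) ℤ)

/-- The kernel of a differential. -/
abbrev cyc (m : ℤ) : EtCoh.Ab X := kernel (K.d m (m + 1))

/-- The short complex of two consecutive kernels. -/
def cycSeq (a b : ℤ) (h : a + 1 = b) : ShortComplex (EtCoh.Ab X) :=
  ShortComplex.mk (kernel.ι (K.d a (a + 1))) (kernel.lift (K.d b (b + 1)) (K.d a b) (K.d_comp_d _ _ _))
    ((cancel_mono (kernel.ι _)).1 (by subst h; rw [Category.assoc, kernel.lift_ι, kernel.condition, zero_comp]))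

theorem cycSeq_shortExact (hK : K.Acyclic) (a b : ℤ) (h : a + 1 = b) : (cycSeq K a b h).ShortExact := by
  haveI : Mono (cycSeq K a b h).f := inferInstanceAs (Mono (kernel.ι _))
  haveI : Epi (cycSeq K a b h).g :=
    (ShortComplex.exact_iff_epi_kernel_lift _).1 ((K.exactAt_iff' a b (b + 1) (by simp; omega) (by simp)).1 (hK b))
  refine { exact := ShortComplex.exact_of_f_is_kernel _ (KernelFork.IsLimit.ofι' _ _ fun {T} k hk => ?_) }
  refine ⟨kernel.lift _ k ?_, kernel.lift_ι _ _ _⟩
  subst h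
  rw [← kernel.lift_ι (K.d (a + 1) (a + 1 + 1)) (K.d a (a + 1)) (K.d_comp_d _ _ _), ← Category.assoc]
  exact (congrArg (· ≫ _) hk).trans zero_comp

variable {K} (hK : K.Acyclic) (hP : ∀ n, Acyc (K.X n)) (W : X.Etale) (hW : IsQcqsObj W)

include hK hP hW in
theorem subsingleton_H_cyc (d : ℕ)
    (hd : ∀ (F : EtCoh.Ab W.left) (q : ℕ), d < q → Subsingleton (EtCoh.H W.left F q)) :
    ∀ (j : ℕ) (m : ℤ) (q : ℕ), d ≤ j + q →
      Subsingleton (EtCoh.H W.left ((EtCoh.pull W.hom).obj (cyc K m)) (q + 1)) := by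
  intro j
  induction j with
  | zero => exact fun m q h => hd _ _ (by omega)
  | succ j ih =>
    intro m q h
    haveI : PreservesFiniteLimits (EtCoh.pull W.hom) := EtFound.pull_preservesFiniteLimits W.hom
    haveI : AlgebraicGeometry.Etale W.hom := W.prop
    haveI := EtFound.jCont W.hom
    let E : ShortComplex (EtCoh.Ab W.left) := (cycSeq K (m - 1) m (by omega)).map (EtCoh.pull W.hom)
    have hE : E.ShortExact := EtLC12.AffineLocalAcyclic.shortExact_pull W.hom (cycSeq_shortExact K hK _ _ (by omega))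
    refine ⟨fun x y => sub_eq_zero.1 ?_⟩
    generalize x - y = z
    haveI : Subsingleton (EtCoh.H W.left E.X₂ (q + 1)) := hP (m - 1) W hW q
    haveI : Subsingleton (EtCoh.H W.left E.X₁ (q + 1 + 1)) := ih (m - 1) (q + 1) (by omega)
    let z' : EtCoh.H W.left E.X₃ (q + 1) := z
    show z' = 0
    obtain ⟨w, hw⟩ := Ext.covariant_sequence_exact₃ _ hE z' rfl (Subsingleton.elim _ _)
    rw [← hw, Subsingleton.elim w 0]
    simp

include hK hP hW in
/-- Sections on a qcqs étale scheme of finite cohomological dimension. -/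
theorem sections_exact (d : ℕ)
    (hd : ∀ (F : EtCoh.Ab W.left) (q : ℕ), d < q → Subsingleton (EtCoh.H W.left F q)) (a b : ℤ) (h : a + 1 = b)
    (x : (K.X b).obj.obj (op W)) (hx : (K.d b (b + 1)).hom.app (op W) x = 0) :
    ∃ y : (K.X a).obj.obj (op W), (K.d a b).hom.app (op W) y = x := by
  obtain ⟨z, hz⟩ := SiteBase.exists_kernel_section
    (ShortComplex.mk (K.d a b) (K.d b (b + 1)) (K.d_comp_d _ _ _)) W x hx
  haveI : AlgebraicGeometry.Etale W.hom := W.prop
  haveI := EtFound.jCont W.hom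
  let E : ShortComplex (EtCoh.Ab W.left) := (cycSeq K a b h).map (EtCoh.pull W.hom)
  have hE : E.ShortExact := EtLC12.AffineLocalAcyclic.shortExact_pull W.hom (cycSeq_shortExact K hK _ _ h)
  haveI : Subsingleton (EtCoh.H W.left E.X₁ 1) := subsingleton_H_cyc hK hP W hW d hd d a 0 le_rfl
  obtain ⟨y, hy⟩ := gsec_surjective hE ((EtAcycLib.UnitRpush.secEquiv (cyc K b) W).inv z)
  refine ⟨(EtAcycLib.UnitRpush.secEquiv (K.X a) W).hom y, ?_⟩
  have hn := ConcreteCategory.congr_hom
    (EtAcycLib.UnitRpush.secEquiv_natural (cycSeq K a b h).g W) y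
  simp only [ConcreteCategory.comp_apply] at hn
  refine Eq.trans ?_ hz
  refine (congrArg (fun t : K.X a ⟶ K.X b => t.hom.app (op W) ((EtAcycLib.UnitRpush.secEquiv (K.X a) W).hom y))
    (kernel.lift_ι (K.d b (b + 1)) (K.d a b) (K.d_comp_d _ _ _)).symm).trans ?_
  refine congrArg (fun t => (kernel.ι (K.d b (b + 1))).hom.app (op W) t) (hn.symm.trans ?_)
  refine (congrArg _ hy).trans ?_
  exact ConcreteCategory.congr_hom (EtAcycLib.UnitRpush.secEquiv (cyc K b) W).inv_hom_id z

end Groth.Agent.RpushCop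

namespace Groth.Agent.RpushCop

open EtFound

theorem acyclic_push {X S : Scheme.{u}} (f : X ⟶ S) [QuasiCompact f] [QuasiSeparated f]
    (hX : ∀ U : X.Etale, CompactSpace ↥(U.left) → QuasiSeparatedSpace ↥(U.left) →
      ∃ d : ℕ, ∀ (F : EtCoh.Ab U.left) (q : ℕ), d < q → Subsingleton (EtCoh.H U.left F q))
    (K : CochainComplex (EtCoh.Ab X) ℤ) (hK : K.Acyclic) (hP : ∀ n, Acyc (K.X n)) :
    (((EtCoh.push f).mapHomologicalComplex (ComplexShape.up ℤ)).obj K).Acyclic := by
  intro b
  let Φ := ((EtCoh.push f).mapHomologicalComplex (ComplexShape.up ℤ)).obj K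
  rw [Φ.exactAt_iff' (b - 1) b (b + 1) (by simp) (by simp)]
  let T := Φ.sc' (b - 1) b (b + 1)
  show T.Exact
  rw [ShortComplex.exact_iff_epi_kernel_lift]
  refine (Sheaf.isLocallySurjective_iff_epi' (A := AddCommGrpCat.{u + 1}) _).1
    ⟨fun {V} z => (mem_topology_iff _).2 fun x => ?_⟩
  obtain ⟨U, g, w, hU, hw⟩ := EtLC12.RpushTorsion.exists_affine_nhd x
  haveI := hU
  let W := (EtCoh.bc f).obj U
  have hW : IsQcqsObj W := isQcqsObj_bc f U (isQcqsObj_of_isAffine U)
  obtain ⟨d, hd⟩ := hX W hW.1 hW.2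
  let z' := (kernel.ι T.g).hom.app (op U) ((kernel T.g).obj.map g.op z)
  have h0 : T.g.hom.app (op U) z' = 0 :=
    congrArg (fun t : kernel T.g ⟶ T.X₃ => t.hom.app (op U) ((kernel T.g).obj.map g.op z)) (kernel.condition T.g)
  obtain ⟨y, hy⟩ := sections_exact hK hP W hW d hd (b - 1) b (by omega) z' h0
  refine ⟨U, g, w, ⟨y, SiteBase.sheaf_app_injective (kernel.ι T.g) U ?_⟩, hw⟩
  refine Eq.trans ?_ hy
  exact congrArg (fun t : T.X₁ ⟶ T.X₂ => t.hom.app (op U) y) (kernel.lift_ι T.g T.f T.zero)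

end Groth.Agent.RpushCop
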