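import Groth.Agent.TriCat.DerivedCoproducts
import Groth.Agent.TriCat.DerivedOfAdjunction
import Groth.Agent.TriCat.KInjRes
import Groth.Agent.H9Misc.BrownGroth
import Mathlib.Algebra.Homology.HomotopyCategory.Acyclic

/-!
# Derived functors commute with coproducts, given an adapted class closed under coproducts
-/

set_option autoImplicit false
set_option linter.style.haveILetI false
set_option backward.isDefEq.respectTransparency false
set_option backward.isDefEq.respectTransparency.types false
set_option maxHeartbeats 1000000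

universe w w' t v v' u u'

open CategoryTheory CategoryTheory.Category CategoryTheory.Limits

noncomputable section

namespace Groth.Agent.RpushCop

open DerivedCategory

/-- A morphism is a quasi-isomorphism iff its mapping cone is acyclic. -/
lemma quasiIso_iff_acyclic_cone {C : Type u} [Category.{v} C] [Abelian C] {M N : CochainComplex C ℤ} (g : M ⟶ N) :
    QuasiIso g ↔ (CochainComplex.mappingCone g).Acyclic := by
  rw [← HomologicalComplex.mem_quasiIso_iff, ← HomotopyCategory.quotient_obj_mem_subcategoryAcyclic_iff_acyclic,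
    ← HomotopyCategory.quotient_map_mem_quasiIso_iff, HomotopyCategory.quasiIso_eq_trW_subcategoryAcyclic]
  exact (HomotopyCategory.subcategoryAcyclic C).trW_iff_of_distinguished _
    (HomotopyCategory.mappingCone_triangleh_distinguished g)

/-- A functor exact on acyclic complexes with terms in `P` preserves quasi-isomorphisms between complexes with terms in `P`. -/
lemma quasiIso_map {A : Type u} [Category.{v} A] [Abelian A] {B : Type u'} [Category.{v'} B] [Abelian B]
    (F : A ⥤ B) [F.Additive] (P : A → Prop) (hbi : ∀ X Y, P X → P Y → P (X ⊞ Y))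
    (hiso : ∀ X Y, (X ≅ Y) → P X → P Y)
    (hexact : ∀ K : CochainComplex A ℤ, K.Acyclic → (∀ n, P (K.X n)) →
      ((F.mapHomologicalComplex (ComplexShape.up ℤ)).obj K).Acyclic)
    {K L : CochainComplex A ℤ} (f : K ⟶ L) [QuasiIso f] (hK : ∀ n, P (K.X n)) (hL : ∀ n, P (L.X n)) :
    QuasiIso ((F.mapHomologicalComplex (ComplexShape.up ℤ)).map f) := by
  let Φ := F.mapHomologicalComplex (ComplexShape.up ℤ)
  have h1 : (CochainComplex.mappingCone f).Acyclic := (quasiIso_iff_acyclic_cone f).1 inferInstance
  have h2 : ∀ n, P ((CochainComplex.mappingCone f).X n) := fun n =>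
    hiso _ _ (HomologicalComplex.homotopyCofiber.XIsoBiprod f n (n + 1) rfl).symm (hbi _ _ (hK _) (hL _))
  refine (quasiIso_iff_acyclic_cone _).2 fun n => ?_
  exact (hexact _ h1 h2 n).of_iso (CochainComplex.mappingCone.mapHomologicalComplexIso f F)

/-- A functor computed by suitable complexes commutes with a coproduct of such. -/
lemma isIso_sigmaComparison {A : Type u} [Category.{v} A] [Abelian A] {B : Type u'} [Category.{v'} B]
    [Abelian B] {J : Type t}
    [HasColimitsOfShape (Discrete J) A] [HasExactColimitsOfShape (Discrete J) A]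
    [HasColimitsOfShape (Discrete J) B] [HasExactColimitsOfShape (Discrete J) B] [HasDerivedCategory.{w} A] [HasDerivedCategory.{w'} B]
    (F : DerivedCategory A ⥤ DerivedCategory B) (G : CochainComplex A ℤ ⥤ CochainComplex B ℤ)
    [PreservesColimitsOfShape (Discrete J) G]
    (η : G ⋙ DerivedCategory.Q ⟶ DerivedCategory.Q ⋙ F)
    (C : J → DerivedCategory A) [HasCoproduct C] [HasCoproduct fun j => F.obj (C j)]
    (K : J → CochainComplex A ℤ) (e' : ∀ j, DerivedCategory.Q.obj (K j) ≅ C j)
    (hη : ∀ j, IsIso (η.app (K j))) (hη' : IsIso (η.app (∐ K))) :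
    IsIso (sigmaComparison F C) := by
  haveI := H9Misc.BrownGroth.preservesColimit_Q K
  haveI := H9Misc.BrownGroth.preservesColimit_Q fun j => G.obj (K j)
  haveI : PreservesColimit (Discrete.functor K ⋙ G)
      (DerivedCategory.Q : CochainComplex B ℤ ⥤ DerivedCategory B) :=
    preservesColimit_of_iso_diagram (K₁ := Discrete.functor fun j => G.obj (K j)) _
      (Discrete.natIso fun j => Iso.refl _)
  haveI : PreservesColimit (Discrete.functor K) (DerivedCategory.Q ⋙ F) := by
    refine preservesColimit_of_preserves_colimit_cocone (coproductIsCoproduct K) ?_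
    refine IsColimit.equivOfNatIsoOfIso
      (NatIso.ofComponents (fun j => @asIso _ _ _ _ (η.app (K j.as)) (hη _))
        fun {i j} g => ?_) _ _ ?_
      (isColimitOfPreserves (G ⋙ DerivedCategory.Q) (coproductIsCoproduct K))
    · obtain rfl := Discrete.ext (Discrete.eq_of_hom g)
      simp
    · haveI := hη'
      refine Cocone.ext (asIso (η.app (∐ K))) fun j => ?_
      haveI := hη j.as
      change (inv (η.app (K j.as)) ≫ _) ≫ η.app (∐ K) = _
      rw [Category.assoc, IsIso.inv_comp_eq]
      exact η.naturality _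
  haveI : HasCoproduct fun j => DerivedCategory.Q.obj (K j) :=
    hasColimit_of_iso (Discrete.natIso fun j => e' j.as :
      Discrete.functor (fun j => DerivedCategory.Q.obj (K j)) ≅ Discrete.functor C)
  haveI : PreservesColimit (Discrete.functor fun j => DerivedCategory.Q.obj (K j)) F :=
    preservesColimit_of_preserves_colimit_cocone
      ((Cofan.isColimitMapCoconeEquiv (DerivedCategory.Q : CochainComplex A ℤ ⥤ DerivedCategory A)
        _ _) (isColimitOfPreserves _ (coproductIsCoproduct K)))
      ((Cofan.isColimitMapCoconeEquiv F _ _).symm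
        ((Cofan.isColimitMapCoconeEquiv (DerivedCategory.Q ⋙ F) _ _)
          (isColimitOfPreserves (DerivedCategory.Q ⋙ F) (coproductIsCoproduct K))))
  haveI : PreservesColimit (Discrete.functor C) F :=
    preservesColimit_of_iso_diagram F (Discrete.natIso fun j => e' j.as :
      Discrete.functor (fun j => DerivedCategory.Q.obj (K j)) ≅ Discrete.functor C)
  exact inferInstanceAs (IsIso (sigmaComparison F C))

variable {A : Type u} [Category.{v} A] [Abelian A] [IsGrothendieckAbelian.{v} A] [HasDerivedCategory.{w} A]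
  {B : Type u'} [Category.{v'} B] [Abelian B] [HasDerivedCategory.{w'} B]
  (F : A ⥤ B) [F.Additive]
  [(F.mapHomotopyCategory (ComplexShape.up ℤ) ⋙ Qh).HasRightDerivedFunctor
    (HomotopyCategory.quasiIso A (ComplexShape.up ℤ))]

/-- The total right derived functor. -/
abbrev RFun : DerivedCategory A ⥤ DerivedCategory B :=
  (F.mapHomotopyCategory (ComplexShape.up ℤ) ⋙ Qh).totalRightDerived Qh
    (HomotopyCategory.quasiIso A (ComplexShape.up ℤ))

/-- The unit of the derived functor on complexes. -/
def unitCx : F.mapHomologicalComplex (ComplexShape.up ℤ) ⋙ Q ⟶ Q ⋙ (RFun F) :=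
  let q := HomotopyCategory.quotient A (ComplexShape.up ℤ)
  (Functor.isoWhiskerRight (F.mapHomotopyCategoryFactors (ComplexShape.up ℤ)) Qh ≪≫
      Functor.associator _ _ _ ≪≫
      Functor.isoWhiskerLeft (F.mapHomologicalComplex (ComplexShape.up ℤ)) (quotientCompQhIso B)).inv ≫
    (Functor.associator _ _ _).hom ≫
    Functor.whiskerLeft q ((F.mapHomotopyCategory (ComplexShape.up ℤ) ⋙ Qh).totalRightDerivedUnit Qh
      (HomotopyCategory.quasiIso A (ComplexShape.up ℤ))) ≫
    (Functor.associator _ _ _).inv ≫ Functor.whiskerRight (quotientCompQhIso A).hom _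

lemma isIso_unitCx_kInj (I : CochainComplex A ℤ) [I.IsKInjective] : IsIso ((unitCx F).app I) := by
  haveI := TriCat.qh_isLeftAdjoint_of_exists_resolution (A := A) fun L => by
    obtain ⟨J, f, hJ, hf, -, -⟩ := TriCat.exists_kInjective_resolution' L
    exact ⟨J, f, hJ, hf⟩
  let adjQ := Adjunction.ofIsLeftAdjoint (Qh (C := A))
  let W := HomotopyCategory.quasiIso A (ComplexShape.up ℤ)
  let G := F.mapHomotopyCategory (ComplexShape.up ℤ) ⋙ Qh
  haveI := TriCat.isRightDerivedFunctor_of_adjunction adjQ W G
  let α₀ : G ⟶ Qh ⋙ Qh.rightAdjoint ⋙ G := Functor.whiskerRight adjQ.unit G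
  let X := (HomotopyCategory.quotient A (ComplexShape.up ℤ)).obj I
  have h1 : IsIso (adjQ.unit.app X) := TriCat.isIso_unit_of_isKInjective adjQ I
  have h2 : IsIso (α₀.app X) := inferInstanceAs (IsIso (G.map (adjQ.unit.app X)))
  let e : Qh.rightAdjoint ⋙ G ≅ (RFun F) := Functor.rightDerivedUnique _ _ α₀ (G.totalRightDerivedUnit Qh W) W
  haveI h3 : IsIso ((G.totalRightDerivedUnit Qh W).app X) := by
    have h : α₀.app X ≫ e.hom.app (Qh.obj X) = (G.totalRightDerivedUnit Qh W).app X :=
      (Functor.rightDerivedNatTrans_app (Qh.rightAdjoint ⋙ G) (RFun F) α₀ (G.totalRightDerivedUnit Qh W) W (𝟙 G) X).trans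
        (id_comp _)
    rw [← h]
    exact IsIso.comp_isIso' h2 inferInstance
  simp only [unitCx, NatTrans.comp_app, Functor.whiskerLeft_app, Functor.whiskerRight_app]
  haveI : IsIso ((G.totalRightDerivedUnit Qh W).app ((HomotopyCategory.quotient A (ComplexShape.up ℤ)).obj I)) := h3
  infer_instance

/-- The derived functor commutes with coproducts. -/
theorem preservesCoproducts (P : A → Prop) (ι : Type v) (hinj : ∀ X : A, Injective X → P X)
    (hsum : ∀ X : ι → A, (∀ j, P (X j)) → P (∐ X)) (hbi : ∀ X Y, P X → P Y → P (X ⊞ Y))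
    (hiso : ∀ X Y, (X ≅ Y) → P X → P Y)
    (hexact : ∀ K : CochainComplex A ℤ, K.Acyclic → (∀ n, P (K.X n)) →
      ((F.mapHomologicalComplex (ComplexShape.up ℤ)).obj K).Acyclic)
    [HasColimitsOfShape (Discrete ι) B] [HasExactColimitsOfShape (Discrete ι) B]
    [PreservesColimitsOfShape (Discrete ι) F] :
    PreservesColimitsOfShape (Discrete ι) (RFun F) := by
  haveI : HasExactColimitsOfShape (Discrete ι) A := inferInstance
  haveI := TriCat.hasColimitsOfShape_derivedCategory (A := A) (J := ι)
  haveI := TriCat.hasColimitsOfShape_derivedCategory (A := B) (J := ι)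
  let Φ := F.mapHomologicalComplex (ComplexShape.up ℤ)
  haveI : PreservesColimitsOfShape (Discrete ι) Φ := HomologicalComplex.preservesColimitsOfShape_of_eval _ fun n =>
    inferInstanceAs (PreservesColimitsOfShape (Discrete ι) (HomologicalComplex.eval A _ n ⋙ F))
  suffices ∀ C : ι → DerivedCategory A, PreservesColimit (Discrete.functor C) (RFun F) from
    ⟨fun {K} => haveI := this fun j => K.obj ⟨j⟩
      preservesColimit_of_iso_diagram _ (Discrete.natIsoFunctor (F := K)).symm⟩
  intro C
  have hres : ∀ j, ∃ I : CochainComplex A ℤ, I.IsKInjective ∧ (∀ n, Injective (I.X n)) ∧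
      Nonempty (Q.obj I ≅ C j) := fun j => by
    obtain ⟨I, f, hI, hf, -, hinj⟩ := TriCat.exists_kInjective_resolution' (Q.objPreimage (C j))
    exact ⟨I, hI, hinj, ⟨(asIso (Q.map f)).symm ≪≫ Q.objObjPreimageIso (C j)⟩⟩
  choose I hI hIinj eI using hres
  have hη : IsIso ((unitCx F).app (∐ I)) := by
    obtain ⟨J, f, hJ, hf, -, hJinj⟩ := TriCat.exists_kInjective_resolution' (∐ I)
    haveI : QuasiIso (Φ.map f) := quasiIso_map F P hbi hiso hexact f (fun n =>
        hiso _ _ (PreservesCoproduct.iso (HomologicalComplex.eval A (ComplexShape.up ℤ) n) I).symm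
          (hsum _ fun j => hinj _ (hIinj j n)))
      (fun n => hinj _ (hJinj n))
    haveI := isIso_unitCx_kInj F J
    have h : IsIso ((unitCx F).app (∐ I) ≫ (Q ⋙ (RFun F)).map f) := by
      rw [← (unitCx F).naturality]
      exact IsIso.comp_isIso' (inferInstanceAs (IsIso (Q.map (Φ.map f)))) inferInstance
    haveI : IsIso ((Q ⋙ (RFun F)).map f) := inferInstanceAs (IsIso (((RFun F)).map (Q.map f)))
    exact IsIso.of_isIso_comp_right _ ((Q ⋙ (RFun F)).map f)
  haveI : IsIso (sigmaComparison (RFun F) C) :=
    isIso_sigmaComparison (RFun F) Φ (unitCx F) C I (fun j => (eI j).some)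
      (fun j => haveI := hI j; isIso_unitCx_kInj F (I j)) hη
  exact PreservesCoproduct.of_iso_comparison (RFun F) C

end Groth.Agent.RpushCop
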